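import Groth.Agent.FinSect.Extend
import Groth.Agent.NeronTors.Basic
import Groth.Agent.S4989
import Groth.Agent.S2260
import Groth.Agent.SmDesc.Scheme
import Groth.Prelude.Def_CInt

/-!
# The smooth locus of a finite normal scheme over a base is a Néron model
-/

set_option autoImplicit false
set_option linter.style.haveILetI false
set_option backward.isDefEq.respectTransparency false
set_option backward.isDefEq.respectTransparency.types false

universe u

open CategoryTheory CategoryTheory.Limits AlgebraicGeometry TopologicalSpace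

noncomputable section

namespace Groth.Agent.FinNeron

theorem dense_of_isSchematicallyDense {X : Scheme.{u}} (U : X.Opens) (h : CInt.IsSchematicallyDense U) :
    Dense (U : Set X) := by
  refine dense_iff_inter_open.2 fun O hO ⟨x, hx⟩ => ?_
  let V : X.Opens := ⟨O, hO⟩
  by_contra hne
  rw [Set.not_nonempty_iff_eq_empty] at hne
  have e : V ⊓ U = ⊥ := Opens.ext hne
  haveI : Subsingleton Γ(X, V ⊓ U) := by rw [e]; infer_instance
  haveI : Subsingleton Γ(X, V) := (h V).subsingleton
  haveI : Nontrivial (X.presheaf.stalk x) := inferInstance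
  exact one_ne_zero (α := X.presheaf.stalk x)
    ((map_one (X.presheaf.germ V x hx).hom).symm.trans ((congrArg _ (Subsingleton.elim 1 0)).trans (map_zero _)))

variable {T S : Scheme.{u}} (π : T ⟶ S) [IsFinite π] [LocallyOfFinitePresentation π] (S₀ : S.Opens)

set_option maxHeartbeats 1000000 in
/-- A rational map from an integral smooth scheme extends to the finite normal scheme, inside the smooth locus. -/
theorem exists_local [IsLocallyNoetherian S] (hT : Pi1.IsNormalScheme T) {V : Scheme.{u}} [IsIntegral V] (p : V ⟶ S)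
    [Smooth p] (x : Spec (V.residueField (genericPoint V)) ⟶ T)
    (hx : x ≫ π = V.fromSpecResidueField (genericPoint V) ≫ p) (hV : Pi1.IsNormalScheme V) :
    ∃ g : V ⟶ T, g ≫ π = p ∧ V.fromSpecResidueField (genericPoint V) ≫ g = x ∧
      Set.range g ⊆ (π.smoothLocus : Set T) := by
  let f : pullback π p ⟶ V := pullback.snd π p
  haveI : IsFinite f := inferInstance
  obtain ⟨σ, hσ, hσx⟩ := FinSect.exists_section f hV (pullback.lift x (V.fromSpecResidueField _) hx) (pullback.lift_snd _ _ _)
  refine ⟨σ ≫ pullback.fst π p, ?_, ?_, ?_⟩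
  · rw [Category.assoc, pullback.condition, ← Category.assoc, hσ, Category.id_comp]
  · rw [← Category.assoc, hσx, pullback.lift_fst]
  rintro _ ⟨v, rfl⟩
  have hW : Pi1.IsNormalScheme (pullback π p) := fun z =>
    (S4989.result (pullback.fst π p) z (by rw [Scheme.Hom.smoothLocus_eq_top]; trivial)).2.mpr (hT _)
  haveI : IsLocallyNoetherian V := LocallyOfFiniteType.isLocallyNoetherian p
  haveI : IsLocallyNoetherian (pullback π p) := LocallyOfFiniteType.isLocallyNoetherian f
  haveI := (hW (σ v)).1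
  obtain ⟨O, hvO, hO⟩ := S2260.result (pullback π p) (σ v)
  haveI := hO
  haveI : IsClosedImmersion σ := by
    haveI : IsClosedImmersion (σ ≫ f) := by rw [hσ]; infer_instance
    exact IsClosedImmersion.of_comp σ f
  have hf : ∀ y, f (σ y) = y := fun y => congr($hσ y)
  have hrange : (O : Set ↥(pullback π p)) ⊆ Set.range σ := by
    have hξO : σ (genericPoint V) ∈ O := ((genericPoint_specializes v).map σ.continuous).mem_open O.2 hvO
    let η : ↥(pullback π p) := O.ι (genericPoint O.toScheme)
    have hη : ∀ w ∈ O, η ⤳ w := fun w hw => (genericPoint_specializes (α := ↥O.toScheme) ⟨w, hw⟩).map O.ι.continuous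
    have h1 : f η = genericPoint V := by
      have := (hη _ hξO).map f.continuous
      rw [hf] at this
      exact (this.antisymm (genericPoint_specializes _)).eq
    have h2 : η = σ (genericPoint V) := by
      have hd := f.isDiscrete_preimage_singleton (genericPoint V)
      haveI := hd.to_subtype
      have : (⟨η, h1⟩ : f ⁻¹' {genericPoint V}) ⤳ ⟨σ (genericPoint V), hf _⟩ :=
        (Topology.IsInducing.subtypeVal.specializes_iff).1 (hη _ hξO)
      exact congrArg Subtype.val this.eq
    intro w hw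
    exact (h2 ▸ hη w hw).mem_closed σ.isClosedEmbedding.isClosed_range ⟨_, rfl⟩
  haveI : IsClosedImmersion (σ ∣_ O) := IsZariskiLocalAtTarget.restrict ‹_› O
  haveI : Surjective (σ ∣_ O) := ⟨fun w => by
    obtain ⟨y, hy⟩ := hrange w.2
    have hy' : y ∈ σ ⁻¹ᵁ O := by show σ y ∈ O; rw [hy]; exact w.2
    exact ⟨⟨y, hy'⟩, Subtype.ext ((congr($(morphismRestrict_ι σ O) ⟨y, hy'⟩)).trans hy)⟩⟩
  haveI := isIso_of_isClosedImmersion_of_surjective (σ ∣_ O)
  have e : O.ι ≫ f = inv (σ ∣_ O) ≫ (σ ⁻¹ᵁ O).ι := by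
    rw [IsIso.eq_inv_comp, ← Category.assoc, morphismRestrict_ι, Category.assoc, hσ, Category.comp_id]
  haveI : Smooth (O.ι ≫ f) := by rw [e]; infer_instance
  have hsm : σ v ∈ f.smoothLocus := by
    have h := Scheme.Hom.preimage_smoothLocus_eq O.ι f
    rw [Scheme.Hom.smoothLocus_eq_top (O.ι ≫ f)] at h
    have h2 : (⟨σ v, hvO⟩ : ↥O.toScheme) ∈ O.ι ⁻¹ᵁ f.smoothLocus := by rw [h]; trivial
    exact h2
  rw [SmDesc.smoothLocus_eq_preimage (IsPullback.of_hasPullback π p) (Or.inr inferInstance)] at hsm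
  exact hsm

/-- Morphisms into a finite scheme agreeing over a dense open agree on reduced smooth schemes. -/
theorem eq_of_dense (hS₀ : Dense (S₀ : Set S)) {Z : Over S} [Smooth Z.hom] [IsReduced Z.left] {a b : Z.left ⟶ T}
    (ha : a ≫ π = Z.hom) (hb : b ≫ π = Z.hom)
    (h : pullback.fst Z.hom S₀.ι ≫ a = pullback.fst Z.hom S₀.ι ≫ b) : a = b := by
  haveI : IsDominant (pullback.fst Z.hom S₀.ι) := ⟨by
    show Dense (Set.range (pullback.fst Z.hom S₀.ι))
    rw [Scheme.Pullback.range_fst, Scheme.Opens.range_ι]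
    exact hS₀.preimage Z.hom.isOpenMap⟩
  exact ext_of_isDominant_of_isSeparated π (ha.trans hb.symm) _ h

theorem main [IsLocallyNoetherian S] (hT : Pi1.IsNormalScheme T) (hS : Pi1.IsNormalScheme S)
    (hS₀ : Dense (S₀ : Set S)) (Z : Over S) [Smooth Z.hom] :
    Function.Bijective (fun g : Z ⟶ Over.mk (π.smoothLocus.ι ≫ π) => (Over.pullback S₀.ι).map g) := by
  rw [NeronTors.bijective_map_iff]
  have hZ : Pi1.IsNormalScheme Z.left := fun z =>
    (S4989.result Z.hom z (by rw [Scheme.Hom.smoothLocus_eq_top]; trivial)).2.mpr (hS _)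
  haveI : ∀ z : Z.left, _root_.IsReduced (Z.left.presheaf.stalk z) := fun z => by
    haveI := (hZ z).1
    infer_instance
  haveI := isReduced_of_isReduced_stalk Z.left
  haveI : IsLocallyNoetherian Z.left := LocallyOfFiniteType.isLocallyNoetherian Z.hom
  let j : (NeronTors.res S₀ Z).left ⟶ Z.left := pullback.fst Z.hom S₀.ι
  constructor
  · intro g g' h
    refine Over.OverMorphism.ext ((cancel_mono π.smoothLocus.ι).1 ?_)
    refine eq_of_dense π S₀ hS₀ (by rw [Category.assoc]; exact Over.w g) (by rw [Category.assoc]; exact Over.w g') ?_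
    have h' := congr(($h).left ≫ π.smoothLocus.ι)
    simp only [Over.comp_left, NeronTors.inc_left, Category.assoc] at h'
    exact h'
  intro m
  let m₀ : (NeronTors.res S₀ Z).left ⟶ T := m.left ≫ π.smoothLocus.ι
  have hm₀ : m₀ ≫ π = j ≫ Z.hom := by
    simp only [m₀, Category.assoc]
    refine (Over.w m).trans ?_
    exact pullback.condition.symm
  have key : ∀ z : Z.left, ∃ (V : Z.left.Opens) (g : V.toScheme ⟶ T), z ∈ V ∧ g ≫ π = V.ι ≫ Z.hom ∧
      Set.range g ⊆ (π.smoothLocus : Set T) ∧
      pullback.fst j V.ι ≫ m₀ = pullback.snd j V.ι ≫ g := by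
    intro z
    haveI := (hZ z).1
    obtain ⟨V, hzV, hV⟩ := S2260.result Z.left z
    haveI := hV
    have hnV : Pi1.IsNormalScheme V.toScheme := fun w =>
      (S4989.result (V.ι ≫ Z.hom) w (by rw [Scheme.Hom.smoothLocus_eq_top]; trivial)).2.mpr (hS _)
    obtain ⟨z₁, hz₁V, hz₁⟩ := (hS₀.preimage Z.hom.isOpenMap).inter_open_nonempty V V.2 ⟨z, hzV⟩
    have hgen : genericPoint V.toScheme ∈ V.ι ⁻¹ᵁ (Z.hom ⁻¹ᵁ S₀) :=
      (genericPoint_specializes (α := ↥V.toScheme) ⟨z₁, hz₁V⟩).mem_open (V.ι ⁻¹ᵁ (Z.hom ⁻¹ᵁ S₀)).2 hz₁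
    let e := V.toScheme.fromSpecResidueField (genericPoint V.toScheme)
    have hr : Set.range (e ≫ V.ι) ⊆ Set.range j := by
      rintro _ ⟨q, rfl⟩
      rw [show Set.range j = Z.hom ⁻¹' Set.range S₀.ι from Scheme.Pullback.range_fst _ _, Scheme.Opens.range_ι]
      show Z.hom (V.ι (e q)) ∈ S₀
      rw [show e q = genericPoint V.toScheme from Scheme.fromSpecResidueField_apply _ _]
      exact hgen
    let l := IsOpenImmersion.lift j (e ≫ V.ι) hr
    have hl : l ≫ j = e ≫ V.ι := IsOpenImmersion.lift_fac _ _ _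
    obtain ⟨g, hg, hgx, hgr⟩ := exists_local π hT (V.ι ≫ Z.hom) (l ≫ m₀)
      (by rw [Category.assoc, hm₀, reassoc_of% hl]) hnV
    refine ⟨V, g, hzV, hg, hgr, ?_⟩
    haveI := isReduced_of_isOpenImmersion (pullback.snd j V.ι)
    let q : Spec (V.toScheme.residueField (genericPoint V.toScheme)) ⟶ pullback j V.ι := pullback.lift l e hl
    haveI := EtTorsGen.isDominant_of_openImmersion (pullback.snd j V.ι) q (pullback.lift_snd _ _ _)
    refine ext_of_isDominant_of_isSeparated π ?_ q ?_
    · rw [Category.assoc, hm₀, Category.assoc, hg, pullback.condition_assoc]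
    · rw [pullback.lift_fst_assoc, pullback.lift_snd_assoc, hgx]
  choose V g hzV hg hgr hgm using key
  have hcov : IsOpenCover V := .mk (top_le_iff.mp fun z _ => Opens.mem_iSup.2 ⟨z, hzV z⟩)
  let C := Z.left.openCoverOfIsOpenCover V hcov
  have hglue : ∀ a b : C.I₀, pullback.fst (C.f a) (C.f b) ≫ g a = pullback.snd (C.f a) (C.f b) ≫ g b := by
    intro a b
    let w : Over S := Over.mk (pullback.fst (C.f a) (C.f b) ≫ C.f a ≫ Z.hom)
    haveI : IsReduced w.left := isReduced_of_isOpenImmersion (pullback.fst (C.f a) (C.f b) ≫ C.f a)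
    haveI : Smooth w.hom := inferInstanceAs (Smooth (pullback.fst (C.f a) (C.f b) ≫ C.f a ≫ Z.hom))
    refine eq_of_dense π S₀ hS₀ (Z := w) ((Category.assoc _ _ _).trans ?_) ((Category.assoc _ _ _).trans ?_) ?_
    · rw [hg]; rfl
    · rw [hg]
      show pullback.snd (C.f a) (C.f b) ≫ C.f b ≫ Z.hom = pullback.fst (C.f a) (C.f b) ≫ C.f a ≫ Z.hom
      rw [pullback.condition_assoc]
    · let P := pullback w.hom S₀.ι
      let r : P ⟶ (NeronTors.res S₀ Z).left :=
        pullback.lift (pullback.fst w.hom S₀.ι ≫ pullback.fst (C.f a) (C.f b) ≫ C.f a) (pullback.snd _ _)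
          (by simp only [Category.assoc]; exact pullback.condition)
      have hr : r ≫ j = pullback.fst w.hom S₀.ι ≫ pullback.fst (C.f a) (C.f b) ≫ C.f a := pullback.lift_fst _ _ _
      let ra : P ⟶ pullback j (V a).ι := pullback.lift r (pullback.fst _ _ ≫ pullback.fst _ _)
        (by rw [hr, Category.assoc]; rfl)
      let rb : P ⟶ pullback j (V b).ι := pullback.lift r (pullback.fst _ _ ≫ pullback.snd _ _)
        (by rw [hr, Category.assoc, pullback.condition]; rfl)
      have ea := congrArg (ra ≫ ·) (hgm a)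
      have eb := congrArg (rb ≫ ·) (hgm b)
      simp only [ra, rb, pullback.lift_fst_assoc, pullback.lift_snd_assoc, Category.assoc] at ea eb
      exact ea.symm.trans eb
  let G := C.glueMorphisms g hglue
  have hG : G ≫ π = Z.hom := C.hom_ext _ _ fun a => by
    rw [Scheme.Cover.ι_glueMorphisms_assoc, hg]
    rfl
  have hGr : Set.range G ⊆ Set.range π.smoothLocus.ι := by
    rintro _ ⟨z, rfl⟩
    rw [Scheme.Opens.range_ι]
    have := congr($(Scheme.Cover.ι_glueMorphisms C g hglue z) ⟨z, hzV z⟩)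
    exact hgr z ⟨⟨z, hzV z⟩, this.symm⟩
  refine ⟨Over.homMk (IsOpenImmersion.lift π.smoothLocus.ι G hGr) ?_, ?_⟩
  · show IsOpenImmersion.lift π.smoothLocus.ι G hGr ≫ π.smoothLocus.ι ≫ π = Z.hom
    rw [← Category.assoc, IsOpenImmersion.lift_fac, hG]
  · refine Over.OverMorphism.ext ((cancel_mono π.smoothLocus.ι).1 ?_)
    simp only [Over.comp_left, NeronTors.inc_left, Category.assoc, Over.homMk_left, IsOpenImmersion.lift_fac]
    refine Scheme.Cover.hom_ext (C.pullback₁ j) _ _ fun a => ?_
    show pullback.fst j (V a).ι ≫ j ≫ G = pullback.fst j (V a).ι ≫ m₀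
    rw [pullback.condition_assoc, hgm a]
    exact congrArg (pullback.snd j (V a).ι ≫ ·) (Scheme.Cover.ι_glueMorphisms C g hglue a)

end Groth.Agent.FinNeron

end
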