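import Groth.Agent.NagataNorm.Basic
import Groth.Agent.NormSect.Basic
import Groth.Agent.DomLib.Basic
import Groth.Agent.S2260
import Groth.Prelude.Def_Pi1
import Mathlib

/-!
# The normalisation of a normal Noetherian scheme in an étale scheme is finite
-/

set_option autoImplicit false
set_option linter.style.haveILetI false
set_option backward.isDefEq.respectTransparency false
set_option backward.isDefEq.respectTransparency.types false

universe u

open CategoryTheory AlgebraicGeometry TopologicalSpace

noncomputable section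

namespace Groth.Agent.FinNeron

variable {X S : Scheme.{u}}

theorem domain_sections (U : S.Opens) [IsIntegral (U : Scheme.{u})] : IsDomain Γ(S, U) :=
  U.topIso.commRingCatIsoToRingEquiv.symm.toMulEquiv.isDomain _

theorem closed_sections (U : S.Opens) [IsIntegral (U : Scheme.{u})] (hS : Pi1.IsNormalScheme S) :
    IsIntegrallyClosed Γ(S, U) := by
  haveI : Nonempty (⊤ : U.toScheme.Opens) := ⟨⟨Classical.arbitrary _, trivial⟩⟩
  haveI := NormSect.isIntegrallyClosed_sections (⊤ : U.toScheme.Opens) fun x _ => by
    haveI := (hS x.1).2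
    exact IsIntegrallyClosed.of_equiv (U.stalkIso x).commRingCatIsoToRingEquiv.symm
  exact IsIntegrallyClosed.of_equiv U.topIso.commRingCatIsoToRingEquiv

variable (f : X ⟶ S) [Etale f]

theorem generic_of_max {U : S.Opens} [IsIntegral (U : Scheme.{u})] {η : X} (hU : f η ∈ U)
    (h : closure {η} ∈ irreducibleComponents X) (p : S) (hp : p ∈ U) : f η ⤳ p := by
  let g : ↥U.toScheme := genericPoint U.toScheme
  have hg : ∀ q ∈ U, g.1 ⤳ q := fun q hq =>
    (genericPoint_specializes (α := ↥U.toScheme) ⟨q, hq⟩).map U.ι.continuous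
  obtain ⟨ζ, hζ, e⟩ := Flat.generalizingMap f (hg _ hU)
  have : ζ = η := DomLib.eq_of_specializes_max h hζ
  rw [← this, e]
  exact hg p hp

theorem separable_residue (x : X) :
    letI : Algebra (S.residueField (f x)) (X.residueField x) := (f.residueFieldMap x).hom.toAlgebra
    Algebra.IsSeparable (S.residueField (f x)) (X.residueField x) := inferInstance

theorem finite_residue (x : X) :
    letI : Algebra (S.residueField (f x)) (X.residueField x) := (f.residueFieldMap x).hom.toAlgebra
    FiniteDimensional (S.residueField (f x)) (X.residueField x) := by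
  letI : Algebra (S.residueField (f x)) (X.residueField x) := (f.residueFieldMap x).hom.toAlgebra
  haveI : Algebra.IsSeparable (S.residueField (f x)) (X.residueField x) := separable_residue f x
  haveI : Algebra.EssFiniteType (S.residueField (f x)) (X.residueField x) :=
    NagataNorm.residueFieldMap_essFiniteType f x
  exact Algebra.finite_of_essFiniteType_of_isAlgebraic

variable [IsSeparated f] [QuasiCompact f] [IsLocallyNoetherian X] [IsReduced X] [IsReduced S] [IsLocallyNoetherian S]

open NagataNorm in
theorem finite_app (hS : Pi1.IsNormalScheme S) (U : S.Opens) (hU : IsAffineOpen U) [IsIntegral (U : Scheme.{u})]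
    {ξ : S} (hξ : ξ ∈ U) : (f.fromNormalization.app U).hom.Finite := by
  letI := (f.app U).hom.toAlgebra
  rw [f.fromNormalization_app hU, CommRingCat.hom_comp, CommRingCat.hom_ofHom]
  refine RingHom.Finite.comp (RingHom.Finite.of_surjective _
    (f.normalizationObjIso hU).symm.commRingCatIsoToRingEquiv.surjective) ?_
  rw [RingHom.finite_algebraMap]
  let G := {η : X | η ∈ f ⁻¹ᵁ U ∧ closure {η} ∈ irreducibleComponents X}
  haveI : Finite G := NagataNorm.finite_components_of_isCompact (f ⁻¹ᵁ U) (f.isCompact_preimage hU.isCompact)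
  haveI : IsNoetherianRing Γ(S, U) := IsLocallyNoetherian.component_noetherian ⟨U, hU⟩
  haveI : Nonempty U := ⟨⟨_, hξ⟩⟩
  haveI hdom : IsDomain Γ(S, U) := domain_sections U
  haveI : IsIntegrallyClosed Γ(S, U) := closed_sections U hS
  letI : ∀ η : G, Algebra Γ(S, U) (X.residueField η.1) := fun η =>
    ((X.evaluation (f ⁻¹ᵁ U) η.1 η.2.1).hom.comp (f.app U).hom).toAlgebra
  have hfld : ∀ η : G, Module.Finite Γ(S, U) (integralClosure Γ(S, U) (X.residueField η.1)) := fun η => by
    letI : Algebra Γ(S, U) (S.residueField (f η.1)) := (S.evaluation U (f η.1) η.2.1).hom.toAlgebra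
    letI : Algebra (S.residueField (f η.1)) (X.residueField η.1) := (f.residueFieldMap η.1).hom.toAlgebra
    haveI : IsScalarTower Γ(S, U) (S.residueField (f η.1)) (X.residueField η.1) :=
      IsScalarTower.of_algebraMap_eq' <| by
        show (f.app U ≫ X.presheaf.germ _ _ η.2.1 ≫ X.residue η.1).hom =
          (S.presheaf.germ U _ η.2.1 ≫ S.residue (f η.1) ≫ f.residueFieldMap η.1).hom
        rw [Scheme.residue_residueFieldMap]
        exact congrArg CommRingCat.Hom.hom (Scheme.Hom.germ_stalkMap_assoc f U η.1 η.2.1 (X.residue η.1)).symm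
    have hker : ∀ a : Γ(S, U), algebraMap Γ(S, U) (S.residueField (f η.1)) a = 0 → a = 0 := fun a ha => by
      by_contra h0
      obtain ⟨p, hp⟩ : ∃ p, p ∈ S.basicOpen a := by
        by_contra hne
        exact h0 ((basicOpen_eq_bot_iff (X := S) a).1
          (Opens.ext (Set.eq_empty_iff_forall_notMem.2 fun p hp => hne ⟨p, hp⟩)))
      have hη : f η.1 ∈ S.basicOpen a :=
        (generic_of_max f η.2.1 η.2.2 p (S.basicOpen_le a hp)).mem_open (S.basicOpen a).2 hp
      exact (S.evaluation_ne_zero_iff_mem_basicOpen (f η.1) η.2.1 a).2 hη ha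
    haveI : IsFractionRing Γ(S, U) (S.residueField (f η.1)) := by
      haveI : FaithfulSMul Γ(S, U) (S.residueField (f η.1)) :=
        (faithfulSMul_iff_algebraMap_injective _ _).mpr ((injective_iff_map_eq_zero _).2 hker)
      refine IsFractionRing.of_field _ _ fun z => ?_
      obtain ⟨w, rfl⟩ := S.residue_surjective (f η.1) z
      letI := TopCat.Presheaf.algebra_section_stalk S.presheaf ⟨f η.1, η.2.1⟩
      haveI := hU.isLocalization_stalk ⟨f η.1, η.2.1⟩
      obtain ⟨⟨a, s⟩, h⟩ := IsLocalization.surj (hU.primeIdealOf ⟨f η.1, η.2.1⟩).asIdeal.primeCompl w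
      have hs : algebraMap Γ(S, U) (S.residueField (f η.1)) s ≠ 0 :=
        ((IsLocalization.map_units (S.presheaf.stalk (f η.1)) s).map (S.residue (f η.1)).hom).ne_zero
      exact ⟨a, s, ((div_eq_iff hs).2
        ((map_mul (S.residue (f η.1)).hom w _).symm.trans (congrArg (S.residue (f η.1)).hom h)).symm).symm⟩
    haveI : Algebra.EssFiniteType (S.residueField (f η.1)) (X.residueField η.1) :=
      NagataNorm.residueFieldMap_essFiniteType f η.1
    haveI : Algebra.IsSeparable (S.residueField (f η.1)) (X.residueField η.1) := separable_residue f η.1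
    haveI : FiniteDimensional (S.residueField (f η.1)) (X.residueField η.1) := finite_residue f η.1
    exact IsIntegralClosure.finite Γ(S, U) (S.residueField (f η.1)) (X.residueField η.1) _
  let φ : Γ(X, f ⁻¹ᵁ U) →ₐ[Γ(S, U)] ∀ η : G, X.residueField η.1 :=
    AlgHom.pi fun η => { (X.evaluation (f ⁻¹ᵁ U) η.1 η.2.1).hom with commutes' := fun _ => rfl }
  have hφ : Function.Injective φ := by
    refine (injective_iff_map_eq_zero φ).2 fun a ha => ?_
    rw [← basicOpen_eq_bot_iff]
    refine Opens.ext (Set.eq_empty_iff_forall_notMem.2 fun y hy => ?_)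
    obtain ⟨η, hη, hcomp⟩ := exists_component_point_mem (X.basicOpen a) hy
    exact (X.evaluation_ne_zero_iff_mem_basicOpen η (X.basicOpen_le a hη) a).2 hη
      (congrFun ha ⟨η, X.basicOpen_le a hη, hcomp⟩)
  haveI := fun η => hfld η
  haveI : IsNoetherian Γ(S, U) (∀ η : G, integralClosure Γ(S, U) (X.residueField η.1)) :=
    isNoetherian_of_isNoetherianRing_of_finite _ _
  refine Module.Finite.of_injective
    (LinearMap.pi fun η : G =>
      ({ toFun := fun z => ⟨φ z.1 η, (z.2 : IsIntegral Γ(S, U) (z : Γ(X, f ⁻¹ᵁ U))).map ((Pi.evalAlgHom _ _ η).comp φ)⟩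
         map_add' := fun z w => Subtype.ext (congrFun (map_add φ z.1 w.1) η)
         map_smul' := fun a z => Subtype.ext (congrFun (map_smul φ a z.1) η) } :
        integralClosure Γ(S, U) Γ(X, f ⁻¹ᵁ U) →ₗ[Γ(S, U)] integralClosure Γ(S, U) (X.residueField η.1)))
    fun z w h => Subtype.ext (hφ (funext fun η => congrArg Subtype.val (congrFun h η)))

theorem isFinite_fromNormalization (hS : Pi1.IsNormalScheme S) : IsFinite f.fromNormalization := by
  have key : ∀ x : S, ∃ U : S.Opens, IsAffineOpen U ∧ IsIntegral (U : Scheme.{u}) ∧ x ∈ U := fun x => by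
    haveI := (hS x).1
    obtain ⟨W, hxW, hW⟩ := S2260.result S x
    haveI := hW
    obtain ⟨U, hU, hxU, hUW⟩ := exists_isAffineOpen_mem_and_subset (U := W) hxW
    haveI : Nonempty (U : Scheme.{u}) := ⟨⟨x, hxU⟩⟩
    haveI := S.homOfLE hUW
    exact ⟨U, hU, isIntegral_of_isOpenImmersion (S.homOfLE hUW), hxU⟩
  choose U hU hint hx using key
  have hcov : ⨆ x, U x = ⊤ := eq_top_iff.2 fun x _ => Opens.mem_iSup.2 ⟨x, hx x⟩
  refine IsZariskiLocalAtTarget.of_iSup_eq_top U hcov fun x => ?_
  haveI := hint x
  haveI : IsAffine (U x : Scheme.{u}) := hU x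
  haveI : IsAffine (↑(f.fromNormalization ⁻¹ᵁ U x) : Scheme.{u}) := (hU x).preimage f.fromNormalization
  rw [HasAffineProperty.iff_of_isAffine (P := @IsFinite)]
  refine ⟨inferInstance, ?_⟩
  rw [morphismRestrict_appTop, CommRingCat.hom_comp]
  refine RingHom.Finite.comp (RingHom.Finite.of_surjective _
    (ConcreteCategory.bijective_of_isIso (f.normalization.presheaf.map
      (eqToHom (image_morphismRestrict_preimage f.fromNormalization (U x) ⊤)).op)).2) ?_
  haveI : IsIntegral (((U x).ι ''ᵁ ⊤ : S.Opens) : Scheme.{u}) := by rw [(U x).ι_image_top]; exact hint x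
  exact finite_app f hS _ (by rw [(U x).ι_image_top]; exact hU x) (by rw [(U x).ι_image_top]; exact hx x)

end Groth.Agent.FinNeron

end
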