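import Groth.Agent.FinNeron.Basic
import Groth.Agent.FinNeron.Norm
import Groth.Agent.NormalizationNormal.Main
import Groth.Agent.S4997
import Groth.Agent.S1414
import Groth.Agent.ConsEngine.Core

/-!
# Néron models of étale schemes over a dense open of a normal Noetherian scheme
-/

set_option autoImplicit false
set_option linter.style.haveILetI false
set_option backward.isDefEq.respectTransparency false
set_option backward.isDefEq.respectTransparency.types false

universe u

open CategoryTheory CategoryTheory.Limits AlgebraicGeometry TopologicalSpace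

noncomputable section

namespace Groth.Agent.FinNeron

theorem smoothLocus_le_preimage {X T S : Scheme.{u}} (j : X ⟶ T) [IsOpenImmersion j] (π : T ⟶ S)
    [LocallyOfFinitePresentation π] [Smooth (j ≫ π)] (x : X) : j x ∈ π.smoothLocus := by
  have h := Scheme.Hom.preimage_smoothLocus_eq j π
  rw [Scheme.Hom.smoothLocus_eq_top (j ≫ π)] at h
  exact h.ge (trivial : x ∈ (⊤ : X.Opens))

theorem smooth_restrict {T S : Scheme.{u}} (π : T ⟶ S) [LocallyOfFinitePresentation π] (N : T.Opens)
    (hN : N ≤ π.smoothLocus) : Smooth (N.ι ≫ π) := by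
  rw [← Scheme.Hom.smoothLocus_eq_top_iff, ← Scheme.Hom.preimage_smoothLocus_eq, eq_top_iff]
  exact fun x _ => hN x.2

set_option maxHeartbeats 1000000 in
theorem exists_model {S : Scheme.{u}} [IsNoetherian S] (hS : Pi1.IsNormalScheme S) (S₀ : S.Opens)
    (hS₀ : Dense (S₀ : Set S)) (N₀ : Over (S₀ : Scheme.{u})) [Etale N₀.hom] [IsSeparated N₀.hom] [QuasiCompact N₀.hom] :
    ∃ (N : Over S) (_ : (Over.pullback S₀.ι).obj N ≅ N₀), Etale N.hom ∧ IsSeparated N.hom ∧ QuasiCompact N.hom ∧
      ∀ Z : Over S, Smooth Z.hom → Function.Bijective (fun g : Z ⟶ N => (Over.pullback S₀.ι).map g) := by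
  haveI : QuasiCompact S₀.ι := inferInstance
  let f : N₀.left ⟶ S := N₀.hom ≫ S₀.ι
  haveI : Etale f := inferInstance
  haveI : IsSeparated f := inferInstance
  haveI : QuasiCompact f := inferInstance
  have hX : Pi1.IsNormalScheme N₀.left := fun x =>
    (S4989.result f x (by rw [Scheme.Hom.smoothLocus_eq_top]; trivial)).2.mpr (hS _)
  haveI : ∀ x : S, _root_.IsReduced (S.presheaf.stalk x) := fun x => by
    haveI := (hS x).1
    infer_instance
  haveI := isReduced_of_isReduced_stalk S
  haveI : ∀ x : N₀.left, _root_.IsReduced (N₀.left.presheaf.stalk x) := fun x => by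
    haveI := (hX x).1
    infer_instance
  haveI := isReduced_of_isReduced_stalk N₀.left
  haveI : IsLocallyNoetherian N₀.left := LocallyOfFiniteType.isLocallyNoetherian f
  haveI : CompactSpace N₀.left := QuasiCompact.compactSpace_of_compactSpace f
  haveI : IsNoetherian N₀.left := ⟨⟩
  haveI : Finite ↥(irreducibleComponents ↥N₀.left) := NoetherianSpace.finite_irreducibleComponents.to_subtype
  let π := f.fromNormalization
  let j := f.toNormalization
  haveI : LocallyQuasiFinite f := ((S4997.result f).1 inferInstance).2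
  haveI : IsOpenImmersion j := inferInstanceAs (IsOpenImmersion f.toNormalization)
  haveI : IsFinite π := isFinite_fromNormalization f hS
  haveI : LocallyOfFinitePresentation π := ConsEngine.lfp_of_lft π
  have hT : Pi1.IsNormalScheme f.normalization :=
    NormalizationNormal.isNormal_normalization f hX (locallyFinite_of_finite _)
  have hjπ : j ≫ π = f := f.toNormalization_fromNormalization
  haveI : Smooth (j ≫ π) := by rw [hjπ]; infer_instance
  let D : Set f.normalization := (π ⁻¹ᵁ S₀ : Set f.normalization) \ Set.range j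
  let N' : f.normalization.Opens := π.smoothLocus ⊓ ⟨(closure D)ᶜ, isClosed_closure.isOpen_compl⟩
  have hjN : Set.range j ⊆ Set.range N'.ι := by
    rintro _ ⟨x, rfl⟩
    rw [Scheme.Opens.range_ι]
    refine ⟨smoothLocus_le_preimage j π x, fun hx => ?_⟩
    obtain ⟨_, h1, h2⟩ := mem_closure_iff.1 hx (Set.range j) j.isOpenEmbedding.isOpen_range ⟨x, rfl⟩
    exact h2.2 h1
  haveI : Smooth (N'.ι ≫ π) := smooth_restrict π N' inf_le_left
  haveI : IsLocallyNoetherian f.normalization := LocallyOfFiniteType.isLocallyNoetherian π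
  haveI : CompactSpace f.normalization := QuasiCompact.compactSpace_of_compactSpace π
  haveI : IsNoetherian f.normalization := ⟨⟩
  haveI : QuasiCompact N'.ι := inferInstance
  haveI : LocallyQuasiFinite (N'.ι ≫ π) := inferInstance
  haveI : Etale (N'.ι ≫ π) := (S4997.result _).2 ⟨inferInstance, inferInstance⟩
  let N : Over S := Over.mk (N'.ι ≫ π)
  let jN := IsOpenImmersion.lift N'.ι j hjN
  have hjN' : jN ≫ N'.ι = j := IsOpenImmersion.lift_fac _ _ _
  let k : N₀.left ⟶ pullback (N'.ι ≫ π) S₀.ι := pullback.lift jN N₀.hom (by rw [reassoc_of% hjN', hjπ])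
  haveI : IsOpenImmersion jN := by
    haveI : IsOpenImmersion (jN ≫ N'.ι) := by rw [hjN']; infer_instance
    exact IsOpenImmersion.of_comp jN N'.ι
  haveI : IsOpenImmersion k := by
    haveI : IsOpenImmersion (k ≫ pullback.fst (N'.ι ≫ π) S₀.ι) := by rw [pullback.lift_fst]; infer_instance
    exact IsOpenImmersion.of_comp k (pullback.fst (N'.ι ≫ π) S₀.ι)
  haveI : Surjective k := ⟨fun q => by
    let p := pullback.fst (N'.ι ≫ π) S₀.ι q
    have hp : π (N'.ι p) ∈ S₀ := by
      have := congr($(pullback.condition (f := N'.ι ≫ π) (g := S₀.ι)) q)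
      simp only [Scheme.Hom.comp_apply] at this
      rw [this]
      exact (pullback.snd (N'.ι ≫ π) S₀.ι q).2
    obtain ⟨y, hy⟩ : N'.ι p ∈ Set.range j := by
      by_contra hn
      exact p.2.2 (subset_closure ⟨hp, hn⟩)
    refine ⟨y, (pullback.fst (N'.ι ≫ π) S₀.ι).isOpenEmbedding.injective (N'.ι.isOpenEmbedding.injective ?_)⟩
    show N'.ι ((k ≫ pullback.fst (N'.ι ≫ π) S₀.ι) y) = _
    rw [pullback.lift_fst, ← Scheme.Hom.comp_apply, hjN', hy]⟩
  haveI : Epi k.base := (TopCat.epi_iff_surjective _).2 (Surjective.surj (f := k))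
  haveI : IsIso k := IsOpenImmersion.isIso k
  refine ⟨N, (Over.isoMk (asIso k) (by exact pullback.lift_snd _ _ _)).symm, inferInstanceAs (Etale (N'.ι ≫ π)),
    inferInstanceAs (IsSeparated (N'.ι ≫ π)), inferInstanceAs (QuasiCompact (N'.ι ≫ π)), fun Z hZ => ?_⟩
  haveI := hZ
  let M : Over S := Over.mk (π.smoothLocus.ι ≫ π)
  have hle : N' ≤ π.smoothLocus := inf_le_left
  let ι' : N ⟶ M := Over.homMk (f.normalization.homOfLE hle) (by
    show f.normalization.homOfLE hle ≫ π.smoothLocus.ι ≫ π = N'.ι ≫ π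
    rw [Scheme.homOfLE_ι_assoc])
  haveI : IsOpenImmersion ι'.left := inferInstanceAs (IsOpenImmersion (f.normalization.homOfLE hle))
  haveI : Mono ι' := Over.mono_of_mono_left _
  have hM := main π S₀ hT hS hS₀ Z
  refine ⟨fun g g' h => (cancel_mono ι').1 (hM.1 (by simp only [Functor.map_comp]; rw [show (Over.pullback S₀.ι).map g = _ from h])),
    fun m => ?_⟩
  obtain ⟨g, hg⟩ := hM.2 (m ≫ (Over.pullback S₀.ι).map ι')
  haveI : LocallyQuasiFinite (π.smoothLocus.ι ≫ π) := inferInstance
  haveI : Smooth (π.smoothLocus.ι ≫ π) := smooth_restrict π _ le_rfl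
  haveI : Etale (π.smoothLocus.ι ≫ π) := (S4997.result _).2 ⟨inferInstance, inferInstance⟩
  haveI : Smooth (g.left ≫ π.smoothLocus.ι ≫ π) := by
    have : g.left ≫ π.smoothLocus.ι ≫ π = Z.hom := Over.w g
    rw [this]; exact hZ
  haveI : Smooth g.left := S1414.result g.left (π.smoothLocus.ι ≫ π)
  let a : Z.left ⟶ f.normalization := g.left ≫ π.smoothLocus.ι
  haveI : Smooth a := inferInstanceAs (Smooth (g.left ≫ π.smoothLocus.ι))
  have hoff : ∀ z, a z ∉ closure D := fun z hz => by
    obtain ⟨_, ⟨z', rfl⟩, h2⟩ := mem_closure_iff.1 hz _ a.isOpenMap.isOpen_range ⟨z, rfl⟩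
    have hz' : Z.hom z' ∈ S₀ := by
      have : π (a z') = Z.hom z' := congr($(Over.w g) z')
      rw [← this]
      exact h2.1
    obtain ⟨q, rfl⟩ : z' ∈ Set.range (pullback.fst Z.hom S₀.ι) := by
      rw [Scheme.Pullback.range_fst, Scheme.Opens.range_ι]
      exact hz'
    have e : pullback.fst Z.hom S₀.ι ≫ a = (m.left ≫ pullback.fst (N'.ι ≫ π) S₀.ι) ≫ N'.ι := by
      have := congrArg (fun r => r.left ≫ pullback.fst M.hom S₀.ι ≫ π.smoothLocus.ι) hg
      simp only [Over.comp_left, Category.assoc, Over.pullback_map_left] at this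
      rw [pullback.lift_fst_assoc, pullback.lift_fst_assoc] at this
      simp only [a, Category.assoc]
      simpa [ι', M, N, Scheme.homOfLE_ι] using this
    have hN : a (pullback.fst Z.hom S₀.ι q) ∈ N' := by
      rw [← Scheme.Hom.comp_apply, e, Scheme.Hom.comp_apply]
      exact ((m.left ≫ pullback.fst (N'.ι ≫ π) S₀.ι) q).2
    exact hN.2 (subset_closure h2)
  have hr : Set.range a ⊆ Set.range N'.ι := by
    rintro _ ⟨z, rfl⟩
    rw [Scheme.Opens.range_ι]
    exact ⟨(g.left z).2, hoff z⟩
  let g' : Z ⟶ N := Over.homMk (IsOpenImmersion.lift N'.ι a hr) (by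
    show IsOpenImmersion.lift N'.ι a hr ≫ N'.ι ≫ π = Z.hom
    rw [← Category.assoc, IsOpenImmersion.lift_fac, Category.assoc]
    exact Over.w g)
  refine ⟨g', (cancel_mono ((Over.pullback S₀.ι).map ι')).1 ?_⟩
  rw [← Functor.map_comp]
  refine Eq.trans ?_ hg
  congr 1
  refine Over.OverMorphism.ext ((cancel_mono π.smoothLocus.ι).1 ?_)
  simp [g', ι', a]

end Groth.Agent.FinNeron

end
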